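import Mathlib.RingTheory.FormalGroup.Basic
import Mathlib.RingTheory.MvPowerSeries.Order
import Mathlib.RingTheory.MvPowerSeries.Substitution

/-!
# The functional equation `π φ + c φ^q = φ(π X_i + X_i^q)` for multivariate power series
-/
set_option autoImplicit false

namespace K841.LT

open MvPowerSeries Finsupp

variable {σ : Type*} {R : Type*} [CommRing R]

/-- `π X_i + X_i^q`. -/
noncomputable def fX (π : R) (q : ℕ) (i : σ) : MvPowerSeries σ R := π • X i + X i ^ q

lemma constantCoeff_fX (π : R) (q : ℕ) (hq : q ≠ 0) (i : σ) :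
    constantCoeff (fX π q i : MvPowerSeries σ R) = 0 := by
  simp [fX, hq]

lemma hasSubst_fX [Finite σ] (π : R) (q : ℕ) (hq : q ≠ 0) :
    HasSubst (fX π q : σ → MvPowerSeries σ R) :=
  hasSubst_of_constantCoeff_zero (constantCoeff_fX π q hq)

lemma fX_eq_mul (π : R) (q : ℕ) (hq : q ≠ 0) (i : σ) :
    (fX π q i : MvPowerSeries σ R) = X i * (C π + X i ^ (q - 1)) := by
  obtain ⟨r, rfl⟩ := Nat.exists_eq_succ_of_ne_zero hq
  simp only [fX, Nat.succ_eq_add_one, Nat.add_sub_cancel, smul_eq_C_mul]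
  ring

lemma prod_fX (π : R) (q : ℕ) (hq : q ≠ 0) (d : σ →₀ ℕ) :
    (d.prod fun s k => (fX π q s : MvPowerSeries σ R) ^ k) =
      monomial d 1 * d.prod fun s k => (C π + X s ^ (q - 1) : MvPowerSeries σ R) ^ k := by
  have h : (monomial d (1 : R) : MvPowerSeries σ R) = d.prod fun s k => (X s : MvPowerSeries σ R) ^ k := by
    rw [monomial_eq']
    simp
  rw [h, ← Finsupp.prod_mul]
  refine Finsupp.prod_congr fun s _ => ?_
  rw [fX_eq_mul π q hq, mul_pow]

open Classical in
lemma coeff_prod_fX (π : R) (q : ℕ) (hq : 2 ≤ q) (d e : σ →₀ ℕ) (h : degree e ≤ degree d) :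
    coeff e (d.prod fun s k => (fX π q s : MvPowerSeries σ R) ^ k) =
      if d = e then π ^ degree d else 0 := by
  rw [prod_fX π q (by omega), coeff_monomial_mul]
  by_cases hde : d ≤ e
  · have : d = e := by
      have h1 : degree (e - d) + degree d = degree e := by
        rw [← map_add, tsub_add_cancel_of_le hde]
      have h2 : degree (e - d) = 0 := by omega
      have h3 : e - d = 0 := (degree_eq_zero_iff _).1 h2
      have h4 := tsub_add_cancel_of_le hde
      rw [h3, zero_add] at h4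
      exact h4
    subst this
    rw [if_pos le_rfl, if_pos rfl, tsub_self, one_mul, coeff_zero_eq_constantCoeff_apply,
      Finsupp.prod, map_prod]
    have : q - 1 ≠ 0 := by omega
    rw [degree_apply]
    simp [this, Finset.prod_pow_eq_pow_sum]
  · rw [if_neg hde, if_neg (fun h' : d = e => hde h'.le)]

/-- All coefficients of degree `< n` vanish. -/
def Ord (n : ℕ) (δ : MvPowerSeries σ R) : Prop := ∀ d, degree d < n → coeff d δ = 0

lemma Ord.mono {n m : ℕ} {δ : MvPowerSeries σ R} (h : Ord n δ) (hmn : m ≤ n) : Ord m δ :=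
  fun d hd => h d (lt_of_lt_of_le hd hmn)

lemma Ord.add {n : ℕ} {δ ε : MvPowerSeries σ R} (h : Ord n δ) (h' : Ord n ε) : Ord n (δ + ε) :=
  fun d hd => by rw [map_add, h d hd, h' d hd, add_zero]

lemma Ord.sub {n : ℕ} {δ ε : MvPowerSeries σ R} (h : Ord n δ) (h' : Ord n ε) : Ord n (δ - ε) :=
  fun d hd => by rw [map_sub, h d hd, h' d hd, sub_zero]

lemma Ord.smul {n : ℕ} {δ : MvPowerSeries σ R} (a : R) (h : Ord n δ) : Ord n (a • δ) :=
  fun d hd => by rw [MvPowerSeries.coeff_smul, h d hd, mul_zero]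

lemma Ord.mul {n m : ℕ} {δ ε : MvPowerSeries σ R} (h : Ord n δ) (h' : Ord m ε) :
    Ord (n + m) (δ * ε) := by
  classical
  intro d hd
  rw [coeff_mul]
  refine Finset.sum_eq_zero fun p hp => ?_
  have hp' : degree p.1 + degree p.2 = degree d := by
    rw [← map_add, Finset.mem_antidiagonal.1 hp]
  rcases lt_or_ge (degree p.1) n with h1 | h1
  · rw [h _ h1, zero_mul]
  · rw [h' _ (by omega), mul_zero]

lemma Ord.zero' (δ : MvPowerSeries σ R) : Ord 0 δ := fun _ hd => absurd hd (Nat.not_lt_zero _)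

lemma ord_one_iff {δ : MvPowerSeries σ R} : Ord 1 δ ↔ constantCoeff δ = 0 := by
  constructor
  · intro h
    exact h 0 (by simp)
  · intro h d hd
    have : d = 0 := (degree_eq_zero_iff _).1 (by omega)
    subst this
    exact h

lemma Ord.pow {δ : MvPowerSeries σ R} (h : Ord 1 δ) (k : ℕ) : Ord k (δ ^ k) := by
  induction k with
  | zero => exact Ord.zero' _
  | succ k ih => rw [pow_succ]; exact ih.mul h

lemma ord_sum {ι : Type*} {n : ℕ} (s : Finset ι) (f : ι → MvPowerSeries σ R)
    (h : ∀ i ∈ s, Ord n (f i)) : Ord n (∑ i ∈ s, f i) := by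
  intro d hd
  rw [map_sum]
  exact Finset.sum_eq_zero fun i hi => h i hi d hd

lemma eq_zero_of_ord {δ : MvPowerSeries σ R} (h : ∀ n, Ord n δ) : δ = 0 := by
  ext d
  exact h (degree d + 1) d (Nat.lt_succ_self _)

/-- `φ^q - ψ^q` has order one more than `φ - ψ`. -/
lemma ord_pow_sub_pow {n q : ℕ} (hq : 2 ≤ q) {φ ψ : MvPowerSeries σ R} (hφ : Ord 1 φ) (hψ : Ord 1 ψ)
    (h : Ord n (φ - ψ)) : Ord (n + 1) (φ ^ q - ψ ^ q) := by
  have : φ ^ q - ψ ^ q = (φ - ψ) * ∑ i ∈ Finset.range q, φ ^ i * ψ ^ (q - 1 - i) := by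
    rw [mul_comm]
    exact ((Commute.all φ ψ).geom_sum₂_mul q).symm
  rw [this]
  refine h.mul (ord_sum _ _ fun i hi => ?_)
  have hi' := Finset.mem_range.1 hi
  exact ((hφ.pow i).mul (hψ.pow (q - 1 - i))).mono (by omega)

variable [Finite σ]

lemma coeff_subst_fX {π : R} {q : ℕ} (hq : 2 ≤ q) {n : ℕ} {δ : MvPowerSeries σ R} (h : Ord n δ)
    {e : σ →₀ ℕ} (he : degree e ≤ n) :
    coeff e (subst (fX π q : σ → MvPowerSeries σ R) δ) = π ^ degree e * coeff e δ := by
  rw [coeff_subst (hasSubst_fX π q (by omega))]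
  rw [finsum_eq_single _ e]
  · rw [coeff_prod_fX π q hq e e le_rfl, if_pos rfl, smul_eq_mul, mul_comm]
  · intro d hd
    rcases lt_or_ge (degree d) n with h1 | h1
    · rw [h _ h1, zero_smul]
    · rw [coeff_prod_fX π q hq d e (he.trans h1), if_neg hd, smul_zero]

lemma Ord.subst_fX {π : R} {q : ℕ} (hq : 2 ≤ q) {n : ℕ} {δ : MvPowerSeries σ R} (h : Ord n δ) :
    Ord n (subst (fX π q : σ → MvPowerSeries σ R) δ) := by
  intro d hd
  rw [coeff_subst_fX hq h hd.le, h d hd, mul_zero]

/-- The defect of the functional equation. -/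
noncomputable def err (π c : R) (q : ℕ) (φ : MvPowerSeries σ R) : MvPowerSeries σ R :=
  π • φ + c • φ ^ q - subst (fX π q : σ → MvPowerSeries σ R) φ

lemma err_sub {π c : R} {q : ℕ} (hq : 2 ≤ q) (φ ψ : MvPowerSeries σ R) :
    err π c q φ - err π c q ψ =
      π • (φ - ψ) + c • (φ ^ q - ψ ^ q) - subst (fX π q : σ → MvPowerSeries σ R) (φ - ψ) := by
  rw [err, err, subst_sub (hasSubst_fX π q (by omega)), smul_sub, smul_sub]
  ring

lemma coeff_err_sub {π c : R} {q : ℕ} (hq : 2 ≤ q) {φ ψ : MvPowerSeries σ R} (hφ : Ord 1 φ)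
    (hψ : Ord 1 ψ) {n : ℕ} (h : Ord n (φ - ψ)) {e : σ →₀ ℕ} (he : degree e ≤ n) :
    coeff e (err π c q φ) - coeff e (err π c q ψ) =
      (π - π ^ degree e) * (coeff e φ - coeff e ψ) := by
  rw [← map_sub, err_sub hq, map_sub, map_add, coeff_subst_fX hq h he, MvPowerSeries.coeff_smul,
    MvPowerSeries.coeff_smul, ord_pow_sub_pow hq hφ hψ h e (by omega), map_sub]
  ring

/-- Uniqueness of solutions of the functional equation. -/
theorem unique [IsDomain R] {π c : R} (hπ : ∀ n, 2 ≤ n → π - π ^ n ≠ 0) {q : ℕ} (hq : 2 ≤ q)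
    {φ ψ : MvPowerSeries σ R} (hφ : constantCoeff φ = 0) (hψ : constantCoeff ψ = 0)
    (h1 : ∀ i, coeff (single i 1) φ = coeff (single i 1) ψ)
    (eφ : err π c q φ = 0) (eψ : err π c q ψ = 0) : φ = ψ := by
  rw [← ord_one_iff] at hφ hψ
  have key : ∀ n, Ord (n + 2) (φ - ψ) := by
    intro n
    induction n with
    | zero =>
      intro d hd
      rcases Nat.lt_or_ge (degree d) 1 with h | h
      · exact hφ.sub hψ d h
      · have h2 : degree d = 1 := by omega
        have h3 : d ∈ {p : σ →₀ ℕ | degree p = 1} := h2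
        rw [← Finsupp.range_single_one] at h3
        obtain ⟨i, rfl⟩ := h3
        rw [map_sub, h1, sub_self]
    | succ n ih =>
      intro d hd
      rcases Nat.lt_or_ge (degree d) (n + 2) with h | h
      · exact ih d h
      · have h2 : degree d = n + 2 := by omega
        have h3 := coeff_err_sub (c := c) (π := π) hq hφ hψ ih (e := d) h2.le
        rw [eφ, eψ, map_zero, sub_zero, zero_eq_mul] at h3
        rcases h3 with h3 | h3
        · exact absurd h3 (hπ _ (by omega))
        · rw [map_sub, h3]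
  rw [← sub_eq_zero]
  refine eq_zero_of_ord fun n => ?_
  exact (key n).mono (by omega)

/-- Correction term. -/
noncomputable def corr (n : ℕ) (u : (σ →₀ ℕ) → R) : MvPowerSeries σ R :=
  fun e => if degree e = n then u e else 0

omit [Finite σ] in
lemma coeff_corr (n : ℕ) (u : (σ →₀ ℕ) → R) (e : σ →₀ ℕ) :
    coeff e (corr n u) = if degree e = n then u e else 0 := rfl

omit [Finite σ] in
lemma ord_corr (n : ℕ) (u : (σ →₀ ℕ) → R) : Ord n (corr n u) := fun d hd => by
  rw [coeff_corr, if_neg hd.ne]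

/-- One approximation step. -/
lemma exists_step {π c : R} {q : ℕ} (hq : 2 ≤ q)
    (hdvd : ∀ (φ : MvPowerSeries σ R) (e : σ →₀ ℕ), constantCoeff φ = 0 → 2 ≤ degree e →
      π - π ^ degree e ∣ coeff e (err π c q φ))
    {n : ℕ} (hn : 2 ≤ n) {φ : MvPowerSeries σ R} (hφ : Ord 1 φ) (h : Ord n (err π c q φ)) :
    ∃ ψ : MvPowerSeries σ R, Ord n (ψ - φ) ∧ Ord (n + 1) (err π c q ψ) := by
  have h1 : ∀ e : σ →₀ ℕ, ∃ u : R, degree e = n → coeff e (err π c q φ) = (π - π ^ degree e) * u := by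
    intro e
    by_cases he : degree e = n
    · obtain ⟨u, hu⟩ := hdvd φ e (ord_one_iff.1 hφ) (by omega)
      exact ⟨u, fun _ => hu⟩
    · exact ⟨0, fun h => absurd h he⟩
  choose u hu using h1
  have h2 : Ord n ((φ - corr n u) - φ) := by
    have : (φ - corr n u) - φ = -(1 : R) • corr n u := by simp
    rw [this]
    exact (ord_corr n u).smul _
  refine ⟨φ - corr n u, h2, ?_⟩
  intro d hd
  have h3 : Ord 1 (φ - corr n u) := hφ.sub ((ord_corr n u).mono (by omega))
  have h4 := coeff_err_sub (c := c) (π := π) hq h3 hφ h2 (e := d) (by omega)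
  rw [sub_eq_iff_eq_add] at h4
  rw [h4, map_sub, coeff_corr]
  rcases Nat.lt_or_ge (degree d) n with h5 | h5
  · rw [if_neg h5.ne, h d h5]; ring
  · have h6 : degree d = n := by omega
    rw [if_pos h6, hu d h6]
    ring

/-- Existence of solutions of the functional equation with a given linear part. -/
theorem exists_sol {π c : R} {q : ℕ} (hq : 2 ≤ q)
    (hdvd : ∀ (φ : MvPowerSeries σ R) (e : σ →₀ ℕ), constantCoeff φ = 0 → 2 ≤ degree e →
      π - π ^ degree e ∣ coeff e (err π c q φ)) (a : σ → R) :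
    ∃ φ : MvPowerSeries σ R, constantCoeff φ = 0 ∧ (∀ i, coeff (single i 1) φ = a i) ∧
      err π c q φ = 0 := by
  classical
  -- the linear form
  have hlin : ∃ φ : MvPowerSeries σ R, constantCoeff φ = 0 ∧ (∀ i, coeff (single i 1) φ = a i) := by
    refine ⟨corr 1 (fun e => if h : ∃ i, e = single i 1 then a h.choose else 0), ?_, fun i => ?_⟩
    · rw [← coeff_zero_eq_constantCoeff_apply, coeff_corr, if_neg (by simp)]
    · rw [coeff_corr, if_pos (by simp), dif_pos ⟨i, rfl⟩]
      congr 1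
      have := (⟨i, rfl⟩ : ∃ j, (single i 1 : σ →₀ ℕ) = single j 1).choose_spec
      exact (Finsupp.single_left_injective one_ne_zero this).symm
  obtain ⟨φ₀, h0, h1⟩ := hlin
  have h2 : Ord 2 (err π c q φ₀) := by
    intro d hd
    have hz : Ord 1 (0 : MvPowerSeries σ R) := ord_one_iff.2 (map_zero _)
    have hφ₀ : Ord 1 (φ₀ - 0) := by rw [sub_zero]; exact ord_one_iff.2 h0
    have h3 := coeff_err_sub (c := c) (π := π) hq (ord_one_iff.2 h0) hz hφ₀ (e := d) (by omega)
    have h4 : err π c q (0 : MvPowerSeries σ R) = 0 := by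
      rw [err, smul_zero, zero_pow (by omega), smul_zero, zero_add, zero_sub, neg_eq_zero,
        ← coe_substAlgHom (hasSubst_fX π q (by omega)), map_zero]
    rw [h4, map_zero, sub_zero, sub_zero] at h3
    rw [h3]
    rcases Nat.lt_or_ge (degree d) 1 with h5 | h5
    · rw [ord_one_iff.2 h0 d h5, mul_zero]
    · have h6 : degree d = 1 := by omega
      rw [h6, pow_one, sub_self, zero_mul]
  -- the approximating sequence
  let P : ℕ → MvPowerSeries σ R → Prop := fun n φ => Ord 1 φ ∧ Ord (n + 2) (err π c q φ)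
  have hstep : ∀ (n : ℕ) (φ : {φ : MvPowerSeries σ R // P n φ}),
      ∃ ψ : {ψ : MvPowerSeries σ R // P (n + 1) ψ}, Ord (n + 2) (ψ.1 - φ.1) := by
    rintro n ⟨φ, h3, h4⟩
    obtain ⟨ψ, h5, h6⟩ := exists_step hq hdvd (by omega) h3 h4
    refine ⟨⟨ψ, ?_, h6⟩, h5⟩
    have : ψ = (ψ - φ) + φ := by ring
    rw [this]
    exact (h5.mono (by omega)).add h3
  choose g hg using hstep
  let s : (n : ℕ) → {φ : MvPowerSeries σ R // P n φ} := fun n =>
    Nat.rec ⟨φ₀, ord_one_iff.2 h0, h2⟩ (fun n φ => g n φ) n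
  have hs : ∀ n, Ord (n + 2) ((s (n + 1)).1 - (s n).1) := fun n => hg n (s n)
  have hs' : ∀ n m, n ≤ m → Ord (n + 2) ((s m).1 - (s n).1) := by
    intro n m hnm
    induction m, hnm using Nat.le_induction with
    | base => rw [sub_self]; intro d _; exact map_zero _
    | succ m hm ih =>
      have : (s (m + 1)).1 - (s n).1 = ((s (m + 1)).1 - (s m).1) + ((s m).1 - (s n).1) := by ring
      rw [this]
      exact ((hs m).mono (by omega)).add ih
  let φ : MvPowerSeries σ R := fun e => coeff e (s (degree e)).1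
  have hφ : ∀ e, coeff e φ = coeff e (s (degree e)).1 := fun _ => rfl
  have hφs : ∀ n, Ord (n + 2) (φ - (s n).1) := by
    intro n d hd
    rw [map_sub, hφ, ← map_sub]
    rcases Nat.le_total n (degree d) with h | h
    · exact hs' n _ h d hd
    · have := hs' (degree d) n h d (by omega)
      rw [map_sub] at this ⊢
      rw [sub_eq_zero] at this ⊢
      exact this.symm
  have hφ1 : Ord 1 φ := by
    have : φ = (φ - (s 0).1) + (s 0).1 := by ring
    rw [this]
    exact ((hφs 0).mono (by omega)).add (s 0).2.1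
  refine ⟨φ, ord_one_iff.1 hφ1, fun i => ?_, ?_⟩
  · have := hφs 0 (single i 1) (by simp)
    rw [map_sub, sub_eq_zero] at this
    rw [this]
    exact h1 i
  · refine eq_zero_of_ord fun n d hd => ?_
    have h3 := coeff_err_sub (c := c) (π := π) hq hφ1 (s n).2.1 ((hφs n).mono (Nat.le_add_right n 2))
      (e := d) hd.le
    rw [(s n).2.2 d (by omega), sub_zero] at h3
    rw [h3, ← map_sub, hφs n d (by omega), mul_zero]

end K841.LT
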