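import Groth.Agent.LubinTate.K841.Basic
import Mathlib.RingTheory.MvPowerSeries.Expand
import Mathlib.RingTheory.DiscreteValuationRing.Basic
import Mathlib.RingTheory.LocalRing.ResidueField.Basic
import Mathlib.SetTheory.Cardinal.Finite
import Mathlib.FieldTheory.Finite.Basic

/-!
# Compositions of solutions; the case of a discrete valuation ring with finite residue field
-/
set_option autoImplicit false
set_option linter.unusedSectionVars false
set_option linter.unusedVariables false

namespace K841.LT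

open MvPowerSeries Finsupp

section comp

variable {σ τ : Type*} {R : Type*} [CommRing R] [Finite σ] [Finite τ]

lemma err_eq_zero_iff {π c : R} {q : ℕ} {φ : MvPowerSeries σ R} :
    err π c q φ = 0 ↔ subst (fX π q : σ → MvPowerSeries σ R) φ = π • φ + c • φ ^ q := by
  rw [err, sub_eq_zero, eq_comm]

lemma err_X {π : R} {q : ℕ} (hq : 2 ≤ q) (i : σ) : err π 1 q (X i : MvPowerSeries σ R) = 0 := by
  rw [err_eq_zero_iff, subst_X (hasSubst_fX π q (by omega)), fX, one_smul]

lemma subst_fX_comp {π : R} {q : ℕ} (hq : 2 ≤ q) {a : σ → MvPowerSeries τ R} (ha : HasSubst a)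
    (i : σ) : subst a (fX π q i : MvPowerSeries σ R) = π • a i + (a i) ^ q := by
  rw [fX, subst_add ha, subst_pow ha, subst_X ha, subst_smul ha, subst_X ha]

/-- Composites of solutions are solutions. -/
theorem err_comp {π c : R} {q : ℕ} (hq : 2 ≤ q) {a : σ → MvPowerSeries τ R}
    (ha : ∀ i, constantCoeff (a i) = 0) (h : ∀ i, err π 1 q (a i) = 0) {φ : MvPowerSeries σ R}
    (hφ : err π c q φ = 0) : err π c q (subst a φ) = 0 := by
  have hs : HasSubst a := hasSubst_of_constantCoeff_zero ha
  have hq0 : q ≠ 0 := by omega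
  rw [err_eq_zero_iff, subst_comp_subst_apply hs (hasSubst_fX π q hq0)]
  have h1 : (fun i => subst (fX π q : τ → MvPowerSeries τ R) (a i)) =
      fun i => subst a (fX π q i : MvPowerSeries σ R) := by
    funext i
    rw [subst_fX_comp hq hs, err_eq_zero_iff.1 (h i), one_smul]
  rw [h1, ← subst_comp_subst_apply (hasSubst_fX π q hq0) hs, err_eq_zero_iff.1 hφ, subst_add hs,
    subst_smul hs, subst_smul hs, subst_pow hs]

lemma err_zero_add {π : R} {q : ℕ} (hq : 2 ≤ q) {φ ψ : MvPowerSeries σ R} (hφ : err π 0 q φ = 0)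
    (hψ : err π 0 q ψ = 0) : err π 0 q (φ + ψ) = 0 := by
  rw [err_eq_zero_iff] at hφ hψ ⊢
  rw [subst_add (hasSubst_fX π q (by omega)), hφ, hψ]
  simp only [zero_smul, add_zero, smul_add]

lemma err_zero_smul {π : R} {q : ℕ} (hq : 2 ≤ q) {φ : MvPowerSeries σ R} (hφ : err π 0 q φ = 0)
    (a : R) : err π 0 q (a • φ) = 0 := by
  rw [err_eq_zero_iff] at hφ ⊢
  rw [subst_smul (hasSubst_fX π q (by omega)), hφ]
  simp only [zero_smul, add_zero]
  rw [smul_comm]

lemma map_fX {S : Type*} [CommRing S] (h : R →+* S) (π : R) (q : ℕ) (i : σ) :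
    map h (fX π q i : MvPowerSeries σ R) = fX (h π) q i := by
  simp [fX, smul_eq_C_mul]

lemma map_err {S : Type*} [CommRing S] (h : R →+* S) (π c : R) {q : ℕ} (hq : 2 ≤ q)
    (φ : MvPowerSeries σ R) : map h (err π c q φ) = err (h π) (h c) q (map h φ) := by
  rw [err, err, map_sub, map_add, map_subst (hasSubst_fX π q (by omega))]
  simp only [map_fX]
  simp [smul_eq_C_mul]

end comp

section lin

variable {σ τ : Type*} {R : Type*} [CommRing R] [Fintype σ] [Finite τ]

omit [Fintype σ] [Finite τ] in
lemma ord_prod_pow {a : σ → MvPowerSeries τ R} (ha : ∀ i, constantCoeff (a i) = 0) (d : σ →₀ ℕ) :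
    Ord (degree d) (d.prod fun s e => (a s) ^ e) := by
  classical
  rw [degree_apply, Finsupp.prod]
  induction d.support using Finset.induction_on with
  | empty => rw [Finset.sum_empty]; exact Ord.zero' _
  | insert s t hs ih =>
    rw [Finset.sum_insert hs, Finset.prod_insert hs]
    exact ((ord_one_iff.2 (ha s)).pow _).mul ih

/-- The linear part of a composite. -/
theorem coeff_single_subst {a : σ → MvPowerSeries τ R} (ha : ∀ i, constantCoeff (a i) = 0)
    {φ : MvPowerSeries σ R} (hφ : constantCoeff φ = 0) (j : τ) :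
    coeff (single j 1) (subst a φ) = ∑ i, coeff (single i 1) φ * coeff (single j 1) (a i) := by
  classical
  have hs : HasSubst a := hasSubst_of_constantCoeff_zero ha
  rw [coeff_subst hs]
  rw [finsum_eq_sum_of_support_subset (s := Finset.univ.image (fun i : σ => (single i 1 : σ →₀ ℕ)))]
  · rw [Finset.sum_image (fun x _ y _ h => Finsupp.single_left_injective one_ne_zero h)]
    refine Finset.sum_congr rfl fun i _ => ?_
    beta_reduce
    rw [smul_eq_mul, Finsupp.prod_single_index (h := fun s e => a s ^ e) (pow_zero _), pow_one]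
  · intro d hd
    rw [Function.mem_support] at hd
    rw [Finset.coe_image, Finset.coe_univ, Set.image_univ, Finsupp.range_single_one]
    change degree d = 1
    by_contra hne
    apply hd
    rcases Nat.lt_or_ge (degree d) 1 with h | h
    · rw [ord_one_iff.2 hφ d h, zero_smul]
    · rw [ord_prod_pow ha d (single j 1) (by rw [degree_single]; omega), smul_zero]

end lin

section dvr

variable {σ : Type*} [Finite σ]

/-- Over a finite field with `q` elements, `φ^q = φ(X^q)`. -/
lemma pow_card_eq {k : Type*} [Field k] [Finite k] (φ : MvPowerSeries σ k) :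
    φ ^ Nat.card k = subst (fX (0 : k) (Nat.card k) : σ → MvPowerSeries σ k) φ := by
  classical
  have := Fintype.ofFinite k
  obtain ⟨p, hp⟩ := CharP.exists k
  have := hp
  have : Fact p.Prime := ⟨CharP.char_is_prime k p⟩
  obtain ⟨n, -, hn⟩ := FiniteField.card k p
  have hc : Nat.card k = p ^ (n : ℕ) := by rw [Nat.card_eq_fintype_card]; exact hn
  have hp0 : p ≠ 0 := (Fact.out : p.Prime).ne_zero
  have h := map_iterateFrobenius_expand p hp0 φ n
  have hid : iterateFrobenius k p n = RingHom.id k := by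
    ext x
    rw [iterateFrobenius_def, ← hn, FiniteField.pow_card]
    rfl
  rw [hid, MvPowerSeries.map_id, RingHom.id_apply] at h
  rw [hc, ← h, expand]
  rw [substAlgHom_apply]
  congr 1
  funext i
  simp [fX]

variable {O : Type*} [CommRing O] [IsDomain O] [IsDiscreteValuationRing O]
    [Finite (IsLocalRing.ResidueField O)]

lemma two_le_card : 2 ≤ Nat.card (IsLocalRing.ResidueField O) :=
  Finite.one_lt_card

omit [Finite (IsLocalRing.ResidueField O)] in
lemma exists_unit {π : O} (hπ : Irreducible π) {n : ℕ} (hn : 2 ≤ n) :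
    ∃ u : Oˣ, π - π ^ n = π * u := by
  have hm : π ^ (n - 1) ∈ IsLocalRing.maximalIdeal O := by
    rw [hπ.maximalIdeal_eq]
    exact Ideal.pow_mem_of_mem _ (Ideal.mem_span_singleton_self _) _ (by omega)
  have hu : IsUnit (1 - π ^ (n - 1)) := by
    by_contra h
    have h2 := Ideal.add_mem _ ((IsLocalRing.mem_maximalIdeal _).2 h) hm
    rw [sub_add_cancel] at h2
    exact (Ideal.ne_top_iff_one _).1 (IsLocalRing.maximalIdeal.isMaximal O).ne_top h2
  obtain ⟨u, hu⟩ := hu
  refine ⟨u, ?_⟩
  rw [hu]
  obtain ⟨m, rfl⟩ : ∃ m, n = m + 1 := ⟨n - 1, by omega⟩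
  rw [Nat.add_sub_cancel, pow_succ]
  ring

omit [Finite (IsLocalRing.ResidueField O)] in
lemma sub_pow_ne_zero {π : O} (hπ : Irreducible π) {n : ℕ} (hn : 2 ≤ n) : π - π ^ n ≠ 0 := by
  obtain ⟨u, hu⟩ := exists_unit hπ hn
  rw [hu]
  exact mul_ne_zero hπ.ne_zero u.ne_zero

lemma dvd_coeff_err {π : O} (hπ : Irreducible π) (φ : MvPowerSeries σ O) (e : σ →₀ ℕ)
    (he : 2 ≤ degree e) :
    π - π ^ degree e ∣ coeff e (err π 1 (Nat.card (IsLocalRing.ResidueField O)) φ) := by
  obtain ⟨u, hu⟩ := exists_unit hπ he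
  rw [hu, Units.mul_right_dvd]
  have h0 : IsLocalRing.residue O π = 0 := by
    rw [IsLocalRing.residue_eq_zero_iff, hπ.maximalIdeal_eq]
    exact Ideal.mem_span_singleton_self _
  have h1 : MvPowerSeries.map (IsLocalRing.residue O)
      (err π 1 (Nat.card (IsLocalRing.ResidueField O)) φ) = 0 := by
    rw [map_err _ _ _ two_le_card, h0, map_one, err, zero_smul, zero_add, one_smul, sub_eq_zero]
    exact pow_card_eq _
  have h2 := congrArg (coeff e) h1
  rw [coeff_map, map_zero, IsLocalRing.residue_eq_zero_iff, hπ.maximalIdeal_eq,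
    Ideal.mem_span_singleton] at h2
  exact h2

/-- The Lubin–Tate lemma: existence. -/
theorem exists_lt {π : O} (hπ : Irreducible π) (a : σ → O) :
    ∃ φ : MvPowerSeries σ O, constantCoeff φ = 0 ∧ (∀ i, coeff (single i 1) φ = a i) ∧
      err π 1 (Nat.card (IsLocalRing.ResidueField O)) φ = 0 :=
  exists_sol two_le_card (fun φ e _ he => dvd_coeff_err hπ φ e he) a

end dvr

end K841.LT
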