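import Groth.Agent.LubinTate.K841.Comp

/-!
# Lubin–Tate formal groups: the main statements
-/
set_option autoImplicit false
set_option linter.unusedSectionVars false
set_option linter.unusedVariables false

namespace K841.LT

open MvPowerSeries Finsupp

section trans

variable {σ τ : Type*} {R : Type*} [CommRing R] [Finite σ] [Finite τ]

lemma subst_f {π : R} {q : ℕ} {f : PowerSeries R} (hf : f = π • PowerSeries.X + PowerSeries.X ^ q)
    {a : MvPowerSeries τ R} (ha : constantCoeff a = 0) :
    PowerSeries.subst a f = π • a + a ^ q := by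
  have h : PowerSeries.HasSubst a := PowerSeries.HasSubst.of_constantCoeff_zero ha
  rw [hf, PowerSeries.subst_add h, PowerSeries.subst_pow h, PowerSeries.subst_smul h,
    PowerSeries.subst_X h]

lemma subst_X_f {π : R} {q : ℕ} {f : PowerSeries R} (hf : f = π • PowerSeries.X + PowerSeries.X ^ q)
    (i : σ) : PowerSeries.subst (X i : MvPowerSeries σ R) f = fX π q i := by
  rw [subst_f hf (constantCoeff_X i), fX]

lemma sol_iff {π : R} {q : ℕ} {f : PowerSeries R} (hf : f = π • PowerSeries.X + PowerSeries.X ^ q)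
    {φ : MvPowerSeries σ R} (hφ : constantCoeff φ = 0) :
    PowerSeries.subst φ f =
      MvPowerSeries.subst (fun i : σ => PowerSeries.subst (MvPowerSeries.X i : MvPowerSeries σ R) f) φ ↔
      err π 1 q φ = 0 := by
  rw [subst_f hf hφ, err_eq_zero_iff, one_smul, eq_comm]
  simp only [subst_X_f hf]

lemma fX_unit {π : R} {q : ℕ} {f : PowerSeries R} (hf : f = π • PowerSeries.X + PowerSeries.X ^ q) :
    (fun _ : Unit => (f : MvPowerSeries Unit R)) = fX π q := by
  funext i
  rw [hf]
  rfl

lemma subst_one {π : R} {q : ℕ} {f : PowerSeries R} (hf : f = π • PowerSeries.X + PowerSeries.X ^ q)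
    (g : PowerSeries R) : PowerSeries.subst f g =
      MvPowerSeries.subst (fX π q : Unit → MvPowerSeries Unit R) (g : MvPowerSeries Unit R) := by
  rw [← fX_unit hf]
  rfl

lemma sol_iff_one {π : R} {q : ℕ} {f : PowerSeries R}
    (hf : f = π • PowerSeries.X + PowerSeries.X ^ q) {g : PowerSeries R}
    (hg : g.constantCoeff = 0) :
    PowerSeries.subst g f = PowerSeries.subst f g ↔ err (σ := Unit) π 1 q g = 0 := by
  rw [subst_one hf, subst_f (τ := Unit) hf hg, err_eq_zero_iff, one_smul, eq_comm]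

lemma coeff_unit (g : PowerSeries R) (i : Unit) :
    MvPowerSeries.coeff (single i 1) (g : MvPowerSeries Unit R) = g.coeff 1 := by
  cases i
  rfl

/-- Composite of a one variable series with a multivariate one. -/
lemma subst_one_comp_err {π c : R} {q : ℕ} (hq : 2 ≤ q) {g : PowerSeries R}
    (hg : err (σ := Unit) π c q g = 0) {φ : MvPowerSeries τ R} (hφ : constantCoeff φ = 0)
    (hφ' : err π 1 q φ = 0) : err π c q (PowerSeries.subst φ g) = 0 :=
  err_comp (σ := Unit) hq (fun _ => hφ) (fun _ => hφ') hg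

lemma coeff_subst_one {g : PowerSeries R} (hg : g.constantCoeff = 0)
    {φ : MvPowerSeries τ R} (hφ : constantCoeff φ = 0) (j : τ) :
    coeff (single j 1) (PowerSeries.subst φ g) = g.coeff 1 * coeff (single j 1) φ := by
  have := coeff_single_subst (σ := Unit) (a := fun _ => φ) (fun _ => hφ) (φ := g) hg j
  rw [Fintype.sum_unique, coeff_unit] at this
  exact this

lemma constantCoeff_subst_one {g : PowerSeries R} (hg : g.constantCoeff = 0)
    {φ : MvPowerSeries τ R} (hφ : constantCoeff φ = 0) :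
    constantCoeff (PowerSeries.subst φ g) = 0 :=
  PowerSeries.constantCoeff_subst_eq_zero hφ _ hg

lemma coeff_single_X [DecidableEq σ] (i j : σ) :
    coeff (single j 1) (X i : MvPowerSeries σ R) = if j = i then 1 else 0 := by
  classical
  rw [coeff_X]
  by_cases h : j = i
  · subst h; simp
  · rw [if_neg h, if_neg (fun h' => h (Finsupp.single_left_injective one_ne_zero h'))]

end trans

section dvr

variable {O : Type*} [CommRing O] [IsDomain O] [IsDiscreteValuationRing O]
    [Finite (IsLocalRing.ResidueField O)]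

lemma subst_pair {R : Type*} [CommRing R] {σ : Type*} [Finite σ] {π c : R} {q : ℕ} (hq : 2 ≤ q)
    {φ : MvPowerSeries (Fin 2) R} (hφ : err π c q φ = 0) {a b : MvPowerSeries σ R}
    (ha : constantCoeff a = 0) (hb : constantCoeff b = 0) (ha' : err π 1 q a = 0)
    (hb' : err π 1 q b = 0) : err π c q (subst ![a, b] φ) = 0 := by
  refine err_comp hq (fun i => ?_) (fun i => ?_) hφ
  · fin_cases i
    · exact ha
    · exact hb
  · fin_cases i
    · exact ha'
    · exact hb'

lemma constantCoeff_pair {R : Type*} [CommRing R] {σ : Type*} [Finite σ]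
    {φ : MvPowerSeries (Fin 2) R} (hφ : constantCoeff φ = 0) {a b : MvPowerSeries σ R}
    (ha : constantCoeff a = 0) (hb : constantCoeff b = 0) :
    constantCoeff (subst ![a, b] φ) = 0 := by
  have h : ∀ i, constantCoeff (![a, b] i) = 0 := by
    intro i
    fin_cases i
    · exact ha
    · exact hb
  exact constantCoeff_subst_eq_zero (hasSubst_of_constantCoeff_zero h) h hφ

lemma coeff_pair {R : Type*} [CommRing R] {σ : Type*} [Finite σ]
    {φ : MvPowerSeries (Fin 2) R} (hφ : constantCoeff φ = 0) (h0 : coeff (single 0 1) φ = 1)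
    (h1 : coeff (single 1 1) φ = 1) {a b : MvPowerSeries σ R}
    (ha : constantCoeff a = 0) (hb : constantCoeff b = 0) (j : σ) :
    coeff (single j 1) (subst ![a, b] φ) = coeff (single j 1) a + coeff (single j 1) b := by
  have h : ∀ i, constantCoeff (![a, b] i) = 0 := by
    intro i
    fin_cases i
    · exact ha
    · exact hb
  rw [coeff_single_subst h hφ, Fin.sum_univ_two, h0, h1, one_mul, one_mul]
  rfl

theorem main_49 (π : O) (hπ : Irreducible π) (f : PowerSeries O)
    (hf : f = π • PowerSeries.X + PowerSeries.X ^ Nat.card (IsLocalRing.ResidueField O)) :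
    ∃ F : FormalGroup O, F.IsComm ∧
      PowerSeries.subst F.toPowerSeries f =
        MvPowerSeries.subst (fun i : Fin 2 => PowerSeries.subst (MvPowerSeries.X i : MvPowerSeries (Fin 2) O) f) F.toPowerSeries ∧
      ∀ G : MvPowerSeries (Fin 2) O, G.constantCoeff = 0 → G.coeff (Finsupp.single 0 1) = 1 →
        G.coeff (Finsupp.single 1 1) = 1 →
        PowerSeries.subst G f =
        MvPowerSeries.subst (fun i : Fin 2 => PowerSeries.subst (MvPowerSeries.X i : MvPowerSeries (Fin 2) O) f) G →
        G = F.toPowerSeries := by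
  obtain ⟨F, hF0, hF1, hF⟩ := exists_lt (σ := Fin 2) hπ (fun _ => 1)
  have hq := two_le_card (O := O)
  have hX : ∀ i : Fin 3, err π 1 (Nat.card (IsLocalRing.ResidueField O))
    (X i : MvPowerSeries (Fin 3) O) = 0 := fun i => err_X hq i
  have hX0 : ∀ i : Fin 3, constantCoeff (X i : MvPowerSeries (Fin 3) O) = 0 :=
    fun i => constantCoeff_X i
  have hX2 : ∀ i : Fin 2, err π 1 (Nat.card (IsLocalRing.ResidueField O))
    (X i : MvPowerSeries (Fin 2) O) = 0 := fun i => err_X hq i
  have hX02 : ∀ i : Fin 2, constantCoeff (X i : MvPowerSeries (Fin 2) O) = 0 :=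
    fun i => constantCoeff_X i
  let FG : FormalGroup O :=
    { toPowerSeries := F
      zero_constantCoeff := hF0
      lin_coeff_X := hF1 0
      lin_coeff_Y := hF1 1
      assoc := by
        refine unique (c := 1) (fun n hn => sub_pow_ne_zero hπ hn) hq ?_ ?_ (fun j => ?_) ?_ ?_
        · exact constantCoeff_pair hF0 (constantCoeff_pair hF0 (hX0 _) (hX0 _)) (hX0 _)
        · exact constantCoeff_pair hF0 (hX0 _) (constantCoeff_pair hF0 (hX0 _) (hX0 _))
        · rw [coeff_pair hF0 (hF1 0) (hF1 1) (constantCoeff_pair hF0 (hX0 _) (hX0 _)) (hX0 _),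
            coeff_pair hF0 (hF1 0) (hF1 1) (hX0 _) (hX0 _),
            coeff_pair hF0 (hF1 0) (hF1 1) (hX0 _) (constantCoeff_pair hF0 (hX0 _) (hX0 _)),
            coeff_pair hF0 (hF1 0) (hF1 1) (hX0 _) (hX0 _), add_assoc]
        · exact subst_pair hq hF (constantCoeff_pair hF0 (hX0 _) (hX0 _)) (hX0 _)
            (subst_pair hq hF (hX0 _) (hX0 _) (hX _) (hX _)) (hX _)
        · exact subst_pair hq hF (hX0 _) (constantCoeff_pair hF0 (hX0 _) (hX0 _)) (hX _)
            (subst_pair hq hF (hX0 _) (hX0 _) (hX _) (hX _)) }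
  refine ⟨FG, ⟨?_⟩, (sol_iff hf hF0).2 hF, ?_⟩
  · refine unique (c := 1) (fun n hn => sub_pow_ne_zero hπ hn) hq hF0 ?_ (fun j => ?_) hF ?_
    · exact constantCoeff_pair hF0 (hX02 _) (hX02 _)
    · change coeff (single j 1) F = coeff (single j 1) (subst ![X 1, X 0] F)
      rw [coeff_pair hF0 (hF1 0) (hF1 1) (hX02 _) (hX02 _), hF1 j, coeff_single_X, coeff_single_X]
      fin_cases j <;> simp
    · exact subst_pair hq hF (hX02 _) (hX02 _) (hX2 _) (hX2 _)
  · intro G hG0 hG1 hG2 hG
    refine unique (c := 1) (fun n hn => sub_pow_ne_zero hπ hn) hq hG0 hF0 (fun j => ?_)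
      ((sol_iff hf hG0).1 hG) hF
    change coeff (single j 1) G = coeff (single j 1) F
    rw [hF1 j]
    fin_cases j
    · exact hG1
    · exact hG2

theorem main_50 (π : O) (hπ : Irreducible π) (f : PowerSeries O)
    (hf : f = π • PowerSeries.X + PowerSeries.X ^ Nat.card (IsLocalRing.ResidueField O)) (α : O) :
    ∃! g : PowerSeries O, g.constantCoeff = 0 ∧ g.coeff 1 = α ∧
      PowerSeries.subst g f = PowerSeries.subst f g := by
  obtain ⟨g, hg0, hg1, hg⟩ := exists_lt (σ := Unit) hπ (fun _ => α)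
  have hq := two_le_card (O := O)
  refine ⟨g, ⟨hg0, hg1 (), (sol_iff_one hf hg0).2 hg⟩, ?_⟩
  rintro h ⟨hh0, hh1, hh⟩
  refine unique (σ := Unit) (c := 1) (fun n hn => sub_pow_ne_zero hπ hn) hq hh0 hg0 (fun j => ?_)
    ((sol_iff_one hf hh0).1 hh) hg
  rw [hg1 j, coeff_unit, hh1]

theorem main_51 (π : O) (hπ : Irreducible π) (f : PowerSeries O)
    (hf : f = π • PowerSeries.X + PowerSeries.X ^ Nat.card (IsLocalRing.ResidueField O))
    (F : FormalGroup O)
    (hF : PowerSeries.subst F.toPowerSeries f =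
        MvPowerSeries.subst (fun i : Fin 2 => PowerSeries.subst (MvPowerSeries.X i : MvPowerSeries (Fin 2) O) f) F.toPowerSeries)
    (g : PowerSeries O) (hg0 : g.constantCoeff = 0)
    (hgf : PowerSeries.subst g f = PowerSeries.subst f g) :
    PowerSeries.subst F.toPowerSeries g =
      MvPowerSeries.subst (fun i : Fin 2 => PowerSeries.subst (MvPowerSeries.X i : MvPowerSeries (Fin 2) O) g)
        F.toPowerSeries := by
  have hq := two_le_card (O := O)
  have hF' := (sol_iff hf F.zero_constantCoeff).1 hF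
  have hg' := (sol_iff_one hf hg0).1 hgf
  have hX02 : ∀ i : Fin 2, constantCoeff (X i : MvPowerSeries (Fin 2) O) = 0 :=
    fun i => constantCoeff_X i
  have hc : ∀ i : Fin 2, constantCoeff (PowerSeries.subst (X i : MvPowerSeries (Fin 2) O) g) = 0 :=
    fun i => constantCoeff_subst_one hg0 (hX02 i)
  refine unique (c := 1) (fun n hn => sub_pow_ne_zero hπ hn) hq ?_ ?_ (fun j => ?_) ?_ ?_
  · exact constantCoeff_subst_one hg0 F.zero_constantCoeff
  · exact constantCoeff_subst_eq_zero (hasSubst_of_constantCoeff_zero hc) hc F.zero_constantCoeff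
  · rw [coeff_subst_one hg0 F.zero_constantCoeff, coeff_single_subst hc F.zero_constantCoeff,
      Fin.sum_univ_two, F.lin_coeff_X, F.lin_coeff_Y, coeff_subst_one hg0 (hX02 _),
      coeff_subst_one hg0 (hX02 _), coeff_single_X, coeff_single_X]
    fin_cases j
    · simpa using F.lin_coeff_X ▸ mul_one _
    · simpa using F.lin_coeff_Y ▸ mul_one _
  · exact subst_one_comp_err hq hg' F.zero_constantCoeff hF'
  · exact err_comp hq hc (fun i => subst_one_comp_err hq hg' (hX02 i) (err_X hq i)) hF'

theorem main_60 (π : O) (hπ : Irreducible π) (f : PowerSeries O)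
    (hf : f = π • PowerSeries.X + PowerSeries.X ^ Nat.card (IsLocalRing.ResidueField O))
    (F : FormalGroup O)
    (hF : PowerSeries.subst F.toPowerSeries f =
        MvPowerSeries.subst (fun i : Fin 2 => PowerSeries.subst (MvPowerSeries.X i : MvPowerSeries (Fin 2) O) f)
          F.toPowerSeries)
    (α β : O) (gα gβ gαβ gs : PowerSeries O)
    (hα0 : gα.constantCoeff = 0) (hα1 : gα.coeff 1 = α) (hαf : PowerSeries.subst gα f = PowerSeries.subst f gα)
    (hβ0 : gβ.constantCoeff = 0) (hβ1 : gβ.coeff 1 = β) (hβf : PowerSeries.subst gβ f = PowerSeries.subst f gβ)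
    (hαβ0 : gαβ.constantCoeff = 0) (hαβ1 : gαβ.coeff 1 = α * β)
    (hαβf : PowerSeries.subst gαβ f = PowerSeries.subst f gαβ)
    (hs0 : gs.constantCoeff = 0) (hs1 : gs.coeff 1 = α + β) (hsf : PowerSeries.subst gs f = PowerSeries.subst f gs) :
    PowerSeries.subst gβ gα = gαβ ∧ F.toPowerSeries.subst ![gα, gβ] = gs := by
  have hq := two_le_card (O := O)
  have hF' := (sol_iff hf F.zero_constantCoeff).1 hF
  have hα' := (sol_iff_one hf hα0).1 hαf
  have hβ' := (sol_iff_one hf hβ0).1 hβf
  have hαβ' := (sol_iff_one hf hαβ0).1 hαβf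
  have hs' := (sol_iff_one hf hs0).1 hsf
  constructor
  · refine unique (σ := Unit) (c := 1) (fun n hn => sub_pow_ne_zero hπ hn) hq ?_ hαβ0 (fun j => ?_) ?_ hαβ'
    · exact constantCoeff_subst_one (τ := Unit) hα0 hβ0
    · rw [coeff_subst_one (τ := Unit) hα0 hβ0, coeff_unit, coeff_unit, hα1, hβ1, hαβ1]
    · exact subst_one_comp_err (τ := Unit) hq hα' hβ0 hβ'
  · refine unique (σ := Unit) (c := 1) (fun n hn => sub_pow_ne_zero hπ hn) hq ?_ hs0 (fun j => ?_) ?_ hs'
    · exact constantCoeff_pair (σ := Unit) F.zero_constantCoeff hα0 hβ0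
    · rw [coeff_unit gs j, hs1]
      refine (coeff_pair (σ := Unit) F.zero_constantCoeff F.lin_coeff_X F.lin_coeff_Y hα0 hβ0 j).trans ?_
      rw [coeff_unit, coeff_unit, hα1, hβ1]
    · exact subst_pair (σ := Unit) hq hF' hα0 hβ0 hα' hβ'

theorem main_52 (K : Type*) [Field K] [Algebra O K] [IsFractionRing O K]
    (π : O) (hπ : Irreducible π) (f : PowerSeries O)
    (hf : f = π • PowerSeries.X + PowerSeries.X ^ Nat.card (IsLocalRing.ResidueField O))
    (F : FormalGroup O)
    (hF : PowerSeries.subst F.toPowerSeries f =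
        MvPowerSeries.subst (fun i : Fin 2 => PowerSeries.subst (MvPowerSeries.X i : MvPowerSeries (Fin 2) O) f) F.toPowerSeries) :
    ∃ ℓ : PowerSeries K, (ℓ.constantCoeff = 0 ∧ ℓ.coeff 1 = 1 ∧
      PowerSeries.subst (PowerSeries.map (algebraMap O K) f) ℓ = algebraMap O K π • ℓ) ∧
      (∀ ℓ' : PowerSeries K, ℓ'.constantCoeff = 0 → ℓ'.coeff 1 = 1 →
        PowerSeries.subst (PowerSeries.map (algebraMap O K) f) ℓ' = algebraMap O K π • ℓ' → ℓ' = ℓ) ∧
      PowerSeries.subst ((F.toPowerSeries).map (algebraMap O K)) ℓ =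
        PowerSeries.subst (MvPowerSeries.X (0 : Fin 2) : MvPowerSeries (Fin 2) K) ℓ +
          PowerSeries.subst (MvPowerSeries.X (1 : Fin 2) : MvPowerSeries (Fin 2) K) ℓ ∧
      (∀ (α : O) (g : PowerSeries O), g.constantCoeff = 0 → g.coeff 1 = α →
        PowerSeries.subst g f = PowerSeries.subst f g →
        PowerSeries.subst (PowerSeries.map (algebraMap O K) g) ℓ = algebraMap O K α • ℓ) := by
  have hq := two_le_card (O := O)
  set q := Nat.card (IsLocalRing.ResidueField O) with hqdef
  set ϖ := algebraMap O K π with hϖ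
  have hinj : Function.Injective (algebraMap O K) := IsFractionRing.injective O K
  have hne : ∀ n, 2 ≤ n → ϖ - ϖ ^ n ≠ 0 := by
    intro n hn h
    apply sub_pow_ne_zero hπ hn
    apply hinj
    rw [map_sub, map_pow, map_zero]
    exact h
  have hfK : PowerSeries.map (algebraMap O K) f = ϖ • PowerSeries.X + PowerSeries.X ^ q := by
    rw [hf, map_add, map_pow, PowerSeries.map_X, PowerSeries.smul_eq_C_mul, map_mul,
      PowerSeries.map_C, PowerSeries.map_X, PowerSeries.smul_eq_C_mul]
  obtain ⟨ℓ, hℓ0, hℓ1, hℓ⟩ := exists_sol (σ := Unit) (π := ϖ) (c := 0) hq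
    (fun φ e _ he => (isUnit_iff_ne_zero.2 (hne _ he)).dvd) (fun _ => 1)
  have hsol : ∀ ℓ' : PowerSeries K,
      PowerSeries.subst (PowerSeries.map (algebraMap O K) f) ℓ' = ϖ • ℓ' ↔
        err (σ := Unit) ϖ 0 q ℓ' = 0 := by
    intro ℓ'
    rw [subst_one hfK, err_eq_zero_iff, zero_smul, add_zero]
  have hF' := (sol_iff hf F.zero_constantCoeff).1 hF
  have hFK : err ϖ 1 q (F.toPowerSeries.map (algebraMap O K)) = 0 := by
    have := congrArg (MvPowerSeries.map (algebraMap O K)) hF'
    rw [map_err _ _ _ hq, map_zero, map_one] at this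
    exact this
  have hFK0 : constantCoeff (F.toPowerSeries.map (algebraMap O K)) = 0 := by
    rw [constantCoeff_map, F.zero_constantCoeff, map_zero]
  have hX02 : ∀ i : Fin 2, constantCoeff (X i : MvPowerSeries (Fin 2) K) = 0 :=
    fun i => constantCoeff_X i
  have hℓ1' : PowerSeries.coeff 1 ℓ = 1 := hℓ1 ()
  refine ⟨ℓ, ⟨hℓ0, hℓ1 (), (hsol ℓ).2 hℓ⟩, ?_, ?_, ?_⟩
  · intro ℓ' h0 h1 h2
    exact unique (σ := Unit) (c := 0) hne hq h0 hℓ0 (fun j => by rw [hℓ1 j, coeff_unit, h1])
      ((hsol ℓ').1 h2) hℓ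
  · refine unique (c := 0) hne hq ?_ ?_ (fun j => ?_) ?_ ?_
    · exact constantCoeff_subst_one hℓ0 hFK0
    · rw [map_add, constantCoeff_subst_one hℓ0 (hX02 _), constantCoeff_subst_one hℓ0 (hX02 _),
        add_zero]
    · rw [coeff_subst_one hℓ0 hFK0, map_add, coeff_subst_one hℓ0 (hX02 _),
        coeff_subst_one hℓ0 (hX02 _), coeff_single_X, coeff_single_X, hℓ1', coeff_map]
      fin_cases j
      · simpa using congrArg (algebraMap O K) F.lin_coeff_X
      · simpa using congrArg (algebraMap O K) F.lin_coeff_Y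
    · exact subst_one_comp_err hq hℓ hFK0 hFK
    · exact err_zero_add hq (subst_one_comp_err hq hℓ (hX02 _) (err_X hq _))
        (subst_one_comp_err hq hℓ (hX02 _) (err_X hq _))
  · intro α g hg0 hg1 hg
    have hg' := (sol_iff_one hf hg0).1 hg
    have hgK : err (σ := Unit) ϖ 1 q (PowerSeries.map (algebraMap O K) g) = 0 := by
      have := congrArg (MvPowerSeries.map (σ := Unit) (algebraMap O K)) hg'
      rw [map_err _ _ _ hq, map_zero, map_one] at this
      exact this
    have hgK0 : constantCoeff (σ := Unit) (PowerSeries.map (algebraMap O K) g) = 0 := by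
      change PowerSeries.constantCoeff (PowerSeries.map (algebraMap O K) g) = 0
      rw [← PowerSeries.coeff_zero_eq_constantCoeff_apply, PowerSeries.coeff_map,
        PowerSeries.coeff_zero_eq_constantCoeff_apply, hg0, map_zero]
    refine unique (σ := Unit) (c := 0) hne hq ?_ ?_ (fun j => ?_) ?_ ?_
    · exact constantCoeff_subst_one (τ := Unit) hℓ0 hgK0
    · rw [MvPowerSeries.smul_eq_C_mul, map_mul]
      rw [hℓ0, mul_zero]
    · rw [coeff_subst_one (τ := Unit) hℓ0 hgK0, MvPowerSeries.coeff_smul, coeff_unit, coeff_unit,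
        PowerSeries.coeff_map, hg1, hℓ1', one_mul, mul_one]
    · exact subst_one_comp_err (τ := Unit) hq hℓ hgK0 hgK
    · exact err_zero_smul hq hℓ _

end dvr

end K841.LT
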